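import Groth.Agent.AmpleFam.Resolution
import Groth.Agent.AmpleLib.Functorial
import Groth.Agent.AmpleLib.Tensor
import Groth.Prelude.Def_Mor2

/-!
# Ample families on schemes over schemes with ample families
-/

set_option autoImplicit false
set_option linter.style.haveILetI false

universe u

open CategoryTheory CategoryTheory.Limits AlgebraicGeometry TopologicalSpace Opposite

noncomputable section

namespace Groth.Agent.AmpleFam.Pullback

open Groth.Agent.QCoh Groth.Agent.Props.GenLocus Groth.Agent.Props.GenTensor Groth.Agent.Props.GenProd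
  Groth.Agent.AmpleLib

variable {X Y : Scheme.{u}} (f : X ⟶ Y)

/-- Ample families pull back along quasi-affine morphisms. -/
theorem hasAmpleFamily_of_qaMor (hf : ConsPairLib.qaMor f) (hY : MoreMor.HasAmpleFamily Y) :
    MoreMor.HasAmpleFamily X := by
  obtain ⟨ι, L, hc, hqs, hL, h⟩ := Resolution.exists_isAmpleFamily hY
  haveI := hc
  haveI := hqs
  haveI := hf.1
  haveI := QAffLib.isSeparated_of_qaMor f hf
  haveI : CompactSpace X := QuasiCompact.compactSpace_of_compactSpace f
  haveI : QuasiSeparatedSpace X := quasiSeparatedSpace_of_quasiSeparated f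
  refine ⟨inferInstance, fun x => ?_⟩
  obtain ⟨i, k, s, hys, hVaff⟩ := h (f x)
  obtain ⟨s', hs', -⟩ := Props.GenPull.exists_pull f (hL i) s
  let U := CohB1.genLocus _ s'
  haveI : U.toScheme.IsQuasiAffine := show (CohB1.genLocus _ s').toScheme.IsQuasiAffine from
    hs' ▸ hf.2 _ hVaff
  obtain ⟨_, ⟨_, ⟨t, ht, rfl⟩, rfl⟩, hxt, -⟩ :=
    (Scheme.IsQuasiAffine.isBasis_basicOpen U.toScheme).exists_subset_of_mem_open
      (Set.mem_univ (⟨x, show x ∈ CohB1.genLocus _ s' by rw [hs']; exact hys⟩ :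
        U.toScheme)) isOpen_univ
  obtain ⟨m, t', ht'⟩ := Props.GenExt.exists_basicOpen (PicCl.isInvertible_pullback f (hL i))
    (Nat.succ_pos k) s' (U.topIso.hom t)
  have himg : U.ι ''ᵁ (U.toScheme.basicOpen t) = X.basicOpen (U.topIso.hom t) := by
    rw [Scheme.image_basicOpen]
    simp only [Scheme.Opens.ι_appIso, Scheme.Opens.topIso]
    exact (Scheme.basicOpen_res_eq _ _ _).symm
  refine ⟨_, m + 1, t', PicCl.isInvertible_pullback f (hL i), Nat.succ_pos m, ?_⟩
  rw [ht', ← himg]
  exact ⟨⟨_, hxt, rfl⟩, ht.image_of_isOpenImmersion _⟩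

/-- An affine morphism is quasi-affine. -/
theorem qaMor_of_isAffineHom [IsAffineHom f] : ConsPairLib.qaMor f :=
  ⟨inferInstance, fun V hV => isQuasiAffine_of_isAffineOpen (hV.preimage f)⟩

/-- A twist by a high power of a pulled back section has affine locus. -/
theorem exists_invertible_locus [CompactSpace X] [QuasiSeparatedSpace X] {L : X.Modules}
    (hL : PicF.IsInvertible L) {P : X.Modules} (hP : PicF.IsInvertible P) {k : ℕ}
    (s : Coh.structureModule X ⟶ CohB1.tensorPow P k) {U : X.Opens}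
    (hU : U = CohB1.genLocus _ s) {e : Γ(P, U)} (he : IsGen P U e) (σ : Γ(L, U)) :
    ∃ (N : X.Modules) (τ : Γ(N, (⊤ : X.Opens))), PicF.IsInvertible N ∧ locus τ = locus σ := by
  obtain ⟨N₀, hN₀⟩ := AmpleLib.exists_twist (PerfTri.Betti.isQuasicoherent_of_isFinLocFree
    (Resolution.isFinLocFree_of_isInvertible hL)) hP s hU he σ 0
  have h := hN₀ N₀ le_rfl
  generalize 0 + k * N₀ = K at h
  obtain ⟨ρ, hρ⟩ := h
  refine ⟨CohB1.tensorMod (CohB1.tensorMod L (CohB1.tensorPow P K)) (CohB1.tensorPow P k),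
    tmul ρ (sec s ⊤),
    isInvertible_tensorMod (isInvertible_tensorMod hL (isInvertible_tensorPow hP K))
      (isInvertible_tensorPow hP k), ?_⟩
  have hPK := isInvertible_tensorPow hP K
  rw [locus_tmul (isInvertible_tensorMod hL hPK) (isInvertible_tensorPow hP k),
    ← genLocus_eq_locus, ← hU]
  have h1 := congrArg locus hρ
  rw [locus_res, tmul_smul_left, locus_smul (isInvertible_tensorMod hL hPK), locus_tmul hL hPK] at h1
  have hUle : U ≤ locus (pw P e K) :=
    le_locus le_rfl (by rw [res_self]; exact isGen_pw he K)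
  have hcU : U ≤ X.basicOpen (co k (sec s ⊤) le_top he ^ N₀) := by
    intro y hy
    rcases Nat.eq_zero_or_pos N₀ with h0 | h0
    · rw [h0, pow_zero, Scheme.basicOpen_of_isUnit _ isUnit_one]; exact hy
    · rw [Scheme.basicOpen_pow _ _ h0, ← genLocus_inf_eq he s, ← hU, inf_idem]; exact hy
  rw [inf_comm (locus ρ) U] at *
  rw [h1]
  refine le_antisymm (fun y hy => ?_) (fun y hy => ?_)
  · exact hy.2.1
  · exact ⟨hcU (locus_le σ hy), hy, hUle (locus_le σ hy)⟩

/-- Ample families exist over a scheme relatively ample over one with an ample family. -/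
theorem hasAmpleFamily_of_isRelAmple {L : X.Modules} (hL : RelAmple.IsRelAmple f L)
    (hY : MoreMor.HasAmpleFamily Y) : MoreMor.HasAmpleFamily X := by
  obtain ⟨ι, M, hM⟩ := Resolution.exists_isAmpleFamily hY
  haveI := hM.1
  haveI := hM.2.1
  haveI := isSeparated_of_isRelAmple hL
  obtain ⟨hqc, hLi, hV⟩ := isRelAmple_iff.mp hL
  haveI := hqc
  haveI : CompactSpace X := QuasiCompact.compactSpace_of_compactSpace f
  haveI : QuasiSeparatedSpace X := quasiSeparatedSpace_of_quasiSeparated f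
  refine ⟨inferInstance, fun x => ?_⟩
  obtain ⟨i, k, s, V, g, hVs, hVaff, hyV, hg⟩ := Basic.exists_locus hM (f x)
  obtain ⟨n, σ, hxσ, hσaff⟩ := (hV ⟨V, hVaff⟩).2 x hyV
  obtain ⟨s', hs', -⟩ := Props.GenPull.exists_pull f (hM.2.2.1 i) s
  obtain ⟨N, τ, hN, hτ⟩ := exists_invertible_locus (isInvertible_tensorPow hLi (n + 1))
    (PicCl.isInvertible_pullback f (hM.2.2.1 i)) s' (U := f ⁻¹ᵁ V) (by rw [hs', hVs])
    (Props.GenPull.isGen_pb f hg) σ
  let e : N ≅ CohB1.tensorPow N 1 := (KFlat.TensorLocFree.unitTensorIso N).symm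
  refine ⟨N, 1, homOfSec τ ≫ e.hom, hN, le_rfl, ?_⟩
  rw [genLocus_comp_iso, genLocus_homOfSec, hτ]
  exact ⟨hxσ, hσaff⟩

end Groth.Agent.AmpleFam.Pullback
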