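import Groth.Agent.AmpleLib.Twist
import Groth.Agent.ExtFilt.Stalkwise
import Groth.Agent.KFlat.StalkTensor
import Groth.Agent.HomShQC.Stalk
import Groth.Agent.HomShEval.QCoh
import Groth.Agent.PicLaw.Basic
import Groth.Agent.Props.GenExt
import Groth.Prelude.Def_KSix

/-!
# Quotients by negative powers of an ample family
-/

set_option autoImplicit false
set_option linter.style.haveILetI false

universe u

open CategoryTheory CategoryTheory.Limits AlgebraicGeometry TopologicalSpace Opposite TensorProduct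

noncomputable section

namespace Groth.Agent.AmpleFam.Basic

open Groth.Agent.QCoh Groth.Agent.Props.GenLocus Groth.Agent.Props.GenTensor Groth.Agent.Props.GenProd
  Groth.Agent.PullStalk.Sky Groth.Agent.PullStalk.Exact Groth.Agent.Omega.Stalks
  Groth.Agent.KFlat.StalkTensor Groth.Agent.ExtFilt.Stalkwise

variable {X : Scheme.{u}} {F P N : X.Modules}

/-- The pairing of stalks given by `ε : N ⊗ P ⟶ O`. -/
def pair (ε : tensM N P ⟶ Coh.structureModule X) (x : X) :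
    N.presheaf.stalk x ⊗[X.presheaf.stalk x] P.presheaf.stalk x →ₗ[X.presheaf.stalk x] X.presheaf.stalk x :=
  (HomShQC.unitStalk x).symm.toLinearMap ∘ₗ stalkLin ε x ∘ₗ fromTensor N P x

theorem pair_germ (ε : tensM N P ⟶ Coh.structureModule X) {W : X.Opens} (y : X) (hy : y ∈ W)
    (m : Γ(N, W)) (p : Γ(P, W)) :
    pair ε y (germM N W y hy m ⊗ₜ germM P W y hy p) =
      X.presheaf.germ W y hy (ε.app W (tmulSec W m p)) := by
  change (HomShQC.unitStalk y).symm (stalkLin ε y (fromTensor N P y _)) = _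
  rw [fromTensor_germ]
  refine (LinearEquiv.symm_apply_eq _).2 (Eq.trans ?_ (HomShQC.unitStalk_germ y hy _).symm)
  exact stalkLin_germ ε W y hy _

/-- The value on stalks of the map `N ⟶ F` given by a section `ρ` of `F ⊗ P`. -/
def contr (ε : tensM N P ⟶ Coh.structureModule X) (ρ : Γ(tensM F P, (⊤ : X.Opens))) (x : X) :
    N.presheaf.stalk x →ₗ[X.presheaf.stalk x] F.presheaf.stalk x :=
  ((LinearMap.llcomp (X.presheaf.stalk x) _ _ _
      (TensorProduct.rid (X.presheaf.stalk x) (F.presheaf.stalk x)).toLinearMap) ∘ₗ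
    (LinearMap.lTensorHom (F.presheaf.stalk x)) ∘ₗ
      TensorProduct.curry (pair ε x)).flip (toTensor F P x (germM (tensM F P) ⊤ x trivial ρ))

theorem contr_apply (ε : tensM N P ⟶ Coh.structureModule X) (ρ : Γ(tensM F P, (⊤ : X.Opens)))
    {W : X.Opens} (f : Γ(F, W)) (p : Γ(P, W))
    (hρ : res (tensM F P) le_top ρ = tmulSec W f p) (y : X) (hy : y ∈ W) (n : N.presheaf.stalk y) :
    contr ε ρ y n = pair ε y (n ⊗ₜ germM P W y hy p) • germM F W y hy f := by
  have h1 : toTensor F P y (germM (tensM F P) ⊤ y trivial ρ) = germM F W y hy f ⊗ₜ germM P W y hy p := by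
    rw [← germM_res' (tensM F P) (le_top : W ≤ ⊤) y hy ρ, hρ]
    exact toTensor_tgerm W hy f p
  rw [contr, LinearMap.flip_apply, h1]
  simp

/-- A section of `F ⊗ P` gives a morphism `N ⟶ F`, for `N` paired with `P`. -/
theorem exists_hom_of_section (ε : tensM N P ⟶ Coh.structureModule X)
    (ρ : Γ(tensM F P, (⊤ : X.Opens)))
    (hρ : ∀ x, ∃ (W : X.Opens) (_ : x ∈ W) (f : Γ(F, W)) (p : Γ(P, W)),
      res (tensM F P) le_top ρ = tmulSec W f p) :
    ∃ φ : N ⟶ F, ∀ x, stalkLin φ x = contr ε ρ x := by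
  have hloc : ∀ x t, Loc (contr ε ρ) x t := by
    intro x t
    obtain ⟨O, hxO, m, rfl⟩ := exists_germM_eq N x t
    obtain ⟨W, hxW, f, p, h⟩ := hρ x
    have hx : x ∈ O ⊓ W := ⟨hxO, hxW⟩
    let m' : Γ(N, O ⊓ W) := res N inf_le_left m
    let f' : Γ(F, O ⊓ W) := res F inf_le_right f
    let p' : Γ(P, O ⊓ W) := res P inf_le_right p
    have h' : res (tensM F P) le_top ρ = tmulSec (O ⊓ W) f' p' := by
      rw [← res_res (tensM F P) (le_top : W ≤ ⊤) (inf_le_right : O ⊓ W ≤ W), h]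
      exact tmulSec_res (homOfLE (inf_le_right : O ⊓ W ≤ W)) f p
    let c : Γ(X, O ⊓ W) := ε.app (O ⊓ W) (tmulSec (O ⊓ W) m' p')
    refine ⟨O ⊓ W, hx, m', c • f',
      germM_res' N _ x hx m, fun y hy => ?_⟩
    rw [contr_apply ε ρ f' p' h' y hy, pair_germ ε y hy m' p']
    exact (germM_smul F (O ⊓ W) y hy _ f').symm
  obtain ⟨φ, hφ⟩ := exists_hom hloc
  exact ⟨φ, fun x => LinearMap.ext (hφ x)⟩

theorem span_gen {U : X.Opens} {e : Γ(P, U)} (he : IsGen P U e) (x : X) (hx : x ∈ U)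
    (q : P.presheaf.stalk x) : ∃ r : X.presheaf.stalk x, q = r • germM P U x hx e := by
  obtain ⟨a, ha⟩ := (((isGen_iff_isFrame _).mp he).stalkComb_bijective x hx).2 q
  refine ⟨a 0, ha.symm.trans ?_⟩
  unfold LFFrame.stalkComb
  rw [Fintype.linearCombination_apply, Fin.sum_univ_one]

/-- Some stalk element pairs to one with a generator. -/
theorem exists_pair_eq_one (e : tensM N P ≅ Coh.structureModule X) {U : X.Opens} {p : Γ(P, U)}
    (hp : IsGen P U p) (x : X) (hx : x ∈ U) :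
    ∃ n, pair e.hom x (n ⊗ₜ germM P U x hx p) = 1 := by
  have key : ∀ z : N.presheaf.stalk x ⊗[X.presheaf.stalk x] P.presheaf.stalk x,
      ∃ n, z = n ⊗ₜ germM P U x hx p := by
    intro z
    induction z using TensorProduct.induction_on with
    | zero => exact ⟨0, (zero_tmul _ _).symm⟩
    | tmul n q =>
      obtain ⟨r, rfl⟩ := span_gen hp x hx q
      exact ⟨r • n, (smul_tmul r n _).symm⟩
    | add a b ha hb =>
      obtain ⟨n, rfl⟩ := ha
      obtain ⟨m, rfl⟩ := hb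
      exact ⟨n + m, (add_tmul _ _ _).symm⟩
  obtain ⟨t, ht⟩ := stalk_surjective e.hom x (HomShQC.unitStalk x 1)
  obtain ⟨n, hn⟩ := key (toTensor N P x t)
  refine ⟨n, ?_⟩
  change (HomShQC.unitStalk x).symm (stalkLin e.hom x (fromTensor N P x _)) = 1
  rw [← hn, show fromTensor N P x (toTensor N P x t) = t from
    (stalkTensorEquiv N P x).symm_apply_apply t, ht, LinearEquiv.symm_apply_apply]

/-- A section of `F ⊗ P` divided by an inverse of `P`. -/
theorem exists_divide {P M : X.Modules} (i : tensM M P ≅ Coh.structureModule X)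
    (ρ : Γ(tensM F P, (⊤ : X.Opens)))
    (hcov : ∀ x, ∃ (W : X.Opens) (_ : x ∈ W) (p : Γ(P, W)), IsGen P W p)
    {U : X.Opens} {p : Γ(P, U)} (hp : IsGen P U p) (a : Γ(X, U))
    (ha : ∀ x (hx : x ∈ U), IsUnit (X.presheaf.germ U x hx a)) (σ : Γ(F, U))
    (hρ : res (tensM F P) le_top ρ = tmulSec U (a • σ) p) :
    ∃ φ : M ⟶ F, ∀ x (hx : x ∈ U), ∃ m, stalkLin φ x m = germM F U x hx σ := by
  obtain ⟨φ, hφ⟩ := exists_hom_of_section i.hom ρ fun x => by
    obtain ⟨V, hxV, g, hg⟩ := hcov x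
    obtain ⟨f, hf⟩ := (AmpleLib.tmul_gen_bijective hg F le_rfl).2 (res (tensM F P) le_top ρ)
    exact ⟨V, hxV, f, res P le_rfl g, hf.symm⟩
  refine ⟨φ, fun x hx => ?_⟩
  obtain ⟨n, hn⟩ := exists_pair_eq_one i hp x hx
  obtain ⟨w, hw⟩ := ha x hx
  refine ⟨(↑w⁻¹ : X.presheaf.stalk x) • n, ?_⟩
  rw [map_smul, hφ, contr_apply i.hom ρ (a • σ) p hρ x hx, hn, one_smul, germM_smul, ← hw, smul_smul,
    Units.inv_mul, one_smul]

/-- A section of `F` over an affine `X_s` comes from a negative power. -/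
theorem exists_negPower_hom [CompactSpace X] [QuasiSeparatedSpace X] {L : X.Modules}
    (hL : PicF.IsInvertible L) (hF : Coh.IsQCoh F) {k : ℕ}
    (s : Coh.structureModule X ⟶ CohB1.tensorPow L (k + 1)) {U : X.Opens}
    (hU : U = CohB1.genLocus _ s) {e : Γ(L, U)} (he : IsGen L U e) (σ : Γ(F, U)) :
    ∃ (K : ℕ) (M : X.Modules) (φ : M ⟶ F), 0 < K ∧
      Nonempty (CohB1.tensorMod M (CohB1.tensorPow L K) ≅ Coh.structureModule X) ∧
      ∀ x (hx : x ∈ U), ∃ m, stalkLin φ x m = germM F U x hx σ := by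
  obtain ⟨N₀, hN₀⟩ := AmpleLib.exists_twist hF hL s hU he σ 0
  have h := hN₀ (N₀ + 1) (Nat.le_succ _)
  have hK : 0 < 0 + (k + 1) * (N₀ + 1) := by positivity
  generalize 0 + (k + 1) * (N₀ + 1) = K at h hK
  obtain ⟨ρ, hρ⟩ := h
  obtain ⟨M, -, ⟨i₀⟩⟩ := PicLaw.exists_inverse (AmpleLib.isInvertible_tensorPow hL K)
  let i : tensM M (CohB1.tensorPow L K) ≅ Coh.structureModule X :=
    (show tensM M (CohB1.tensorPow L K) ≅ tensM (CohB1.tensorPow L K) M from
      ((KFlat.tensorBiFlipIso X.sheaf).app _).app _) ≪≫ i₀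
  obtain ⟨φ, hφ⟩ := exists_divide (F := F) i ρ (fun x => by
      obtain ⟨V, g, hxV, hg⟩ := exists_isGen hL x
      exact ⟨V, hxV, pw L g K, isGen_pw hg K⟩)
    (isGen_pw he K) (co (k + 1) (sec s ⊤) le_top he ^ (N₀ + 1)) (fun x hx => by
      rw [map_pow]
      refine IsUnit.pow _ ((X.mem_basicOpen _ x hx).1 ?_)
      rw [← genLocus_inf_eq he s, ← hU, inf_idem]
      exact hx) σ hρ
  exact ⟨K, M, φ, hK, ⟨i⟩, hφ⟩

/-- Affine trivializing loci of sections of positive powers. -/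
theorem exists_locus {ι : Type u} {L : ι → X.Modules} (hL : KSix.IsAmpleFamily L) (x : X) :
    ∃ (i : ι) (k : ℕ) (s : Coh.structureModule X ⟶ CohB1.tensorPow (L i) (k + 1)) (U : X.Opens)
      (e : Γ(L i, U)), U = CohB1.genLocus _ s ∧ IsAffineOpen U ∧ x ∈ U ∧ IsGen (L i) U e := by
  haveI := hL.1
  haveI := hL.2.1
  obtain ⟨i, n, s, hxs, haff⟩ := hL.2.2.2 x
  obtain ⟨V, e, hxV, he⟩ := exists_isGen (hL.2.2.1 i) x
  obtain ⟨f, hf, hxf⟩ := haff.exists_basicOpen_le (V := V) ⟨x, hxV⟩ hxs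
  obtain ⟨k, t, ht⟩ := Props.GenExt.exists_basicOpen (hL.2.2.1 i) (Nat.succ_pos n) s f
  exact ⟨i, k, t, X.basicOpen f, res _ hf e, ht.symm, haff.basicOpen f, hxf, he.restrict hf⟩

/-- Quasi-coherent modules of finite type are quotients of sums of negative powers. -/
theorem exists_epi {ι : Type u} {L : ι → X.Modules} (hL : KSix.IsAmpleFamily L) (hF : Coh.IsQCoh F)
    (hF' : CohB1.IsFT F) : ∃ (M : X.Modules) (π : M ⟶ F), KSix.InAddL L M ∧ Epi π := by
  classical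
  haveI := hL.1
  haveI := hL.2.1
  haveI : F.IsQuasicoherent := hF
  haveI : SheafOfModules.IsFiniteType.{u} F := hF'
  choose i k s U e hU hUa hxU he using exists_locus hL
  obtain ⟨t, ht⟩ := isCompact_univ.elim_finite_subcover (fun x : X => (U x : Set X))
    (fun x => (U x).2) fun x _ => Set.mem_iUnion.mpr ⟨x, hxU x⟩
  have hfg : ∀ x : t, ∃ (d : ℕ) (σ : Fin d → Γ(F, U x)), Submodule.span Γ(X, U x) (Set.range σ) = ⊤ :=
    fun x => haveI := finite_sections_of_isFiniteType F (hUa x)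
      Module.Finite.exists_fin
  choose d σ hσ using hfg
  choose K M φ hK hinv hφ using fun p : Σ x : t, Fin (d x) =>
    exists_negPower_hom (hL.2.2.1 (i p.1)) hF (s p.1) (hU p.1) (he p.1) (σ p.1 p.2)
  let E := (Fintype.equivFin (Σ x : t, Fin (d x))).symm
  let N : Fin (Fintype.card (Σ x : t, Fin (d x))) → X.Modules := fun a => M (E a)
  refine ⟨⨁ N, biproduct.desc fun a => φ (E a),
    ⟨_, N, fun a => ⟨i (E a).1, K (E a), hK _, hinv _⟩, ⟨Iso.refl _⟩⟩, ?_⟩
  refine epi_of_stalk fun y => ?_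
  rw [← LinearMap.range_eq_top, eq_top_iff]
  obtain ⟨x, hxt, hyx⟩ := Set.mem_iUnion₂.mp (ht (Set.mem_univ y))
  rw [← HomShEval.QCoh.span_germ F (hUa x) (hσ ⟨x, hxt⟩) hyx, Submodule.span_le]
  rintro _ ⟨j, rfl⟩
  obtain ⟨a, ha⟩ : ∃ a, E a = ⟨⟨x, hxt⟩, j⟩ := ⟨E.symm ⟨⟨x, hxt⟩, j⟩, E.apply_symm_apply _⟩
  obtain ⟨m, hm⟩ := hφ ⟨⟨x, hxt⟩, j⟩ y hyx
  have : ∀ p, p = (⟨⟨x, hxt⟩, j⟩ : Σ x : t, Fin (d x)) → ∃ m, stalkLin (φ p) y m = germM F (U x) y hyx (σ ⟨x, hxt⟩ j) := by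
    rintro _ rfl
    exact ⟨m, hm⟩
  obtain ⟨m', hm'⟩ := this (E a) ha
  refine ⟨stalkLin (biproduct.ι N a) y m', ?_⟩
  rw [← stalkLin_comp, biproduct.ι_desc]
  exact hm'

end Groth.Agent.AmpleFam.Basic
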