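import Groth.Agent.PicLaw.Basic
import Groth.Agent.Props.GenExt
import Groth.Agent.IdealSh.IdealMod
import Groth.Agent.IdealSh.EffCartier
import Groth.Agent.Omega.Stalks

/-!
# The canonical section of the inverse of an effective Cartier ideal
-/

set_option autoImplicit false

universe u

open CategoryTheory Limits AlgebraicGeometry Opposite TopologicalSpace

noncomputable section

namespace Groth.Agent.AmpleFam.CanonSection

open Groth.Agent.QCoh Groth.Agent.Props.GenLocus Groth.Agent.Props.GenTensor Groth.Agent.Props.GenProd Groth.Agent.AmpleLib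
  Groth.Agent.Props.GenExt Groth.Agent.PicLaw OmegaSh Groth.Agent.Omega.Stalks Groth.Agent.PullStalk.Sky

variable {X : Scheme.{u}}

/-- The dual is an inverse. -/
theorem tensor_dual {L : X.Modules} (hL : PicF.IsInvertible L) :
    PicF.IsInvertible (RefHull.homSh L (Coh.structureModule X)) ∧
      Nonempty (CohB1.tensorMod L (RefHull.homSh L (Coh.structureModule X)) ≅ Coh.structureModule X) := by
  refine ⟨AmpleLib.isInvertible_of_exists_isGen fun x =>
    let ⟨U, e, hx, he⟩ := exists_isGen hL x; ⟨U, dualGen he, hx, isGen_dualGen he⟩, ?_⟩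
  refine nonempty_iso_of_transition (fun i : Σ U : X.Opens, {e : Γ(L, U) // IsGen L U e} => i.1)
    (fun x => let ⟨U, e, hx, he⟩ := exists_isGen hL x; ⟨⟨U, e, he⟩, hx⟩)
    (fun i => tmul i.2.1 (dualGen i.2.2)) (fun i => isGen_tmul i.2.2 (isGen_dualGen i.2.2))
    (fun i => one' i.1) (fun i => isGen_one _) ?_
  rintro ⟨U, e, he⟩ ⟨U', e', he'⟩ V hi hj
  obtain ⟨u, hu, -⟩ := he.exists_eq hi (res L hj e')
  obtain ⟨w, hw, -⟩ := he'.exists_eq hj (res L hi e)
  have huw : w * u = 1 := he.injective hi (by rw [mul_smul, ← hu, ← hw, one_smul])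
  have hd : res _ hj (dualGen he') = w • res (RefHull.homSh L (Coh.structureModule X)) hi (dualGen he) := by
    refine eq_of_eval he' hj _ _ fun y => ?_
    rw [smul_apply, res_dualGen_apply, res_dualGen_apply, dualAt_gen he' ⟨y.1, hj y.2⟩,
      ← germM_res' L hj y.1 y.2 e', hu, germM_smul, map_smul, LinearMap.smul_apply, smul_smul,
      germM_res', dualAt_gen he ⟨y.1, hi y.2⟩, ← map_mul, mul_comm, huw, map_one, one_smul,
      ← germM_res' _ hj y.1 y.2, ← germM_res' _ hi y.1 y.2, res_one', res_one']
  refine ⟨1, ?_, by rw [one_smul, res_one', res_one']⟩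
  dsimp only
  rw [res_tmul, res_tmul, hu, hd, tmul_smul_left, tmul_smul_right, smul_smul, mul_comm, huw]


/-- The canonical section of `O(D)`, generating exactly off the support. -/
theorem exists_section_dual (D : X.IdealSheafData) (hD : BlowUp.IsEffCartierIdeal D) :
    ∃ s : Coh.structureModule X ⟶
        CohB1.tensorPow (RefHull.homSh (ClSub.idealMod D) (Coh.structureModule X)) 1,
      (CohB1.genLocus _ s : Set X) = (D.support : Set X)ᶜ := by
  classical
  have hM : PicF.IsInvertible (ClSub.idealMod D) := IdealSh.IdealMod.isInvertible_of_isEffCartierIdeal D hD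
  let I := {a : Σ W : X.Opens, Γ(ClSub.idealMod D, W) // IsGen (ClSub.idealMod D) a.1 a.2}
  obtain ⟨s, hs⟩ := exists_hom_of_cover (L := RefHull.homSh (ClSub.idealMod D) (Coh.structureModule X))
    (fun i : I => i.1.1) (fun x _ => by
      obtain ⟨W, e, hx, he⟩ := exists_isGen hM x
      exact Opens.mem_iSup.mpr ⟨⟨⟨W, e⟩, he⟩, hx⟩)
    (fun i => dualGen i.2) (fun i => isGen_dualGen i.2) 1 (fun i => idealSect D _ i.1.2) (by
      rintro ⟨⟨U, σ⟩, he⟩ ⟨⟨U', σ'⟩, he'⟩ u hu
      let V := U ⊓ U'
      obtain ⟨a, -, ha⟩ := exists_unit_smul (he'.restrict (inf_le_right : V ≤ U'))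
        (he.restrict (inf_le_left : V ≤ U))
      have hau : a = u := by
        refine TopCat.Presheaf.section_ext X.sheaf V _ _ fun y hy => ?_
        have h1 := LinearMap.congr_fun (congrFun (congrArg Subtype.val hu) ⟨y, hy⟩)
          (germM (ClSub.idealMod D) U y hy.1 σ)
        have h2 := congrArg (germM (ClSub.idealMod D) V y hy) ha
        rw [germM_res', germM_smul, germM_res'] at h2
        conv_lhs at h1 => rw [h2]
        simp only [smul_apply, res_dualGen_apply, LinearMap.smul_apply, map_smul] at h1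
        rw [dualAt_gen he' ⟨y, hy.2⟩, dualAt_gen he ⟨y, hy.1⟩] at h1
        change X.presheaf.germ V y hy a • germM (Coh.structureModule X) U' y hy.2 (one' U') =
          X.presheaf.germ V y hy u • germM (Coh.structureModule X) U y hy.1 (one' U) at h1
        rw [← germM_res' _ (inf_le_right : V ≤ U') y hy, ← germM_res' _ (inf_le_left : V ≤ U) y hy,
          res_one', res_one'] at h1
        exact (bijective_toSpanSingleton_germ (isGen_one (X := X) V) y hy).1 h1
      have h3 := congrArg (idealSect D V) ha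
      rw [idealSect_smul] at h3
      change idealSect D V ((ClSub.idealMod D).presheaf.map (homOfLE _).op σ) =
        a * idealSect D V ((ClSub.idealMod D).presheaf.map (homOfLE _).op σ') at h3
      rw [idealSect_map, idealSect_map, hau] at h3
      rw [pow_one]
      exact h3)
  refine ⟨s, Set.ext fun x => ?_⟩
  obtain ⟨U, hxU, -, f, hf, hDU⟩ := IdealSh.EffCartier.exists_equation hD x ⊤ trivial
  obtain ⟨e, hfr, he'⟩ := IdealSh.IdealMod.exists_isFrame_of_equation D hf hDU
  have hgen : IsGen (ClSub.idealMod D) U.1 (e 0) := by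
    refine (isGen_iff_isFrame (e 0)).mpr ?_
    rw [show (fun _ : Fin 1 => e 0) = e from funext fun i => by rw [Subsingleton.elim i 0]]
    exact hfr
  have h1 := congrArg (fun O : X.Opens => x ∈ O) (hs (⟨⟨U.1, e 0⟩, hgen⟩ : I)).2
  simp only [Opens.mem_inf, he', eq_iff_iff, hxU, and_true] at h1
  have h2 : x ∈ (D.support : Set X) ∩ U.1 ↔ x ∈ X.zeroLocus (U := U.1) (D.ideal U : Set _) ∩ U.1 := by
    rw [D.coe_support_inter]
  rw [hDU, Scheme.zeroLocus_span, Scheme.zeroLocus_singleton] at h2
  simp only [Set.mem_inter_iff, Set.mem_compl_iff, SetLike.mem_coe, hxU, and_true] at h2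
  simp only [Set.mem_compl_iff, SetLike.mem_coe, h1, h2, not_not]


end Groth.Agent.AmpleFam.CanonSection
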