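import Groth.Agent.AlgSpB.Art.GenericScheme
import Groth.Agent.FlatMor.GenericPts
import Groth.Agent.AmpleFam.Pullback
import Groth.Agent.AmpleFam.CanonSection
import Groth.Agent.BlowUp.RelAmple
import Groth.Agent.QDom.Global
import Groth.Agent.IdealSh.FinType

/-!
# Blow-ups with ample families
-/

set_option autoImplicit false
set_option linter.style.haveILetI false
set_option backward.isDefEq.respectTransparency false
set_option maxHeartbeats 800000

universe u

open CategoryTheory CategoryTheory.Limits AlgebraicGeometry TopologicalSpace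

noncomputable section

namespace Groth.Agent.AmpleFam.BlowUpFam

open Groth.Agent.QCoh Groth.Agent.Props.GenLocus Groth.Agent.Props.GenTensor Groth.Agent.Props.GenProd
  Groth.Agent.AmpleLib

variable (X : Scheme.{u}) [QuasiSeparatedSpace X]

/-- Every point has a dense affine open neighbourhood, if there are finitely many components. -/
theorem exists_dense_affine (hfin : (irreducibleComponents (X : Type u)).Finite) (x : X) :
    ∃ V : X.Opens, IsAffineOpen V ∧ x ∈ V ∧ Dense (V : Set X) := by
  classical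
  obtain ⟨_, ⟨V, hV, rfl⟩, hxV, -⟩ :=
    X.isBasis_affineOpens.exists_subset_of_mem_open (Set.mem_univ x) isOpen_univ
  let G : Set X := {η | closure {η} ∈ irreducibleComponents (X : Type u)}
  have hG : G.Finite := finite_generic_of_irreducibleComponents' hfin
  have hGV : {η ∈ G | η ∈ V}.Finite := hG.subset fun η h => h.1
  let O : X.Opens := ⟨(⋃ η ∈ {η ∈ G | η ∈ V}, closure {η})ᶜ,
    (hGV.isClosed_biUnion fun η _ => isClosed_closure).isOpen_compl⟩
  haveI : QuasiSeparatedSpace ↥O.toScheme := O.ι.isOpenEmbedding.quasiSeparatedSpace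
  obtain ⟨W, hW, hFW⟩ := Groth.Agent.AlgSpB.Art.exists_affine_of_generic O.toScheme (O.ι ⁻¹' G)
    (hG.preimage O.ι.isOpenEmbedding.injective.injOn) (fun a ha z hz => by
      apply O.ι.isOpenEmbedding.injective
      have h1 := hz.map O.ι.continuous
      exact (h1.antisymm ((Groth.Agent.FlatMor.GenericPts.closure_mem_irreducibleComponents_iff _).1 ha _ h1)).eq)
  refine ⟨V ⊔ O.ι ''ᵁ W, hV.sup_of_disjoint (hW.image_of_isOpenImmersion O.ι) ?_,
    Opens.mem_sup.mpr (Or.inl hxV), fun y => ?_⟩
  · refine disjoint_iff.mpr (eq_bot_iff.mpr fun z hz => ?_)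
    obtain ⟨η, hη, hηz⟩ := Groth.Agent.FlatMor.GenericPts.exists_generic_specializes z
    refine absurd (O.ι_image_le W hz.2) fun h => h ?_
    exact Set.mem_biUnion (show η ∈ {η ∈ G | η ∈ V} from ⟨hη, hηz.mem_open V.2 hz.1⟩)
      (specializes_iff_mem_closure.mp hηz)
  · obtain ⟨η, hη, hηy⟩ := Groth.Agent.FlatMor.GenericPts.exists_generic_specializes y
    refine closure_mono (Set.singleton_subset_iff.mpr ?_) (specializes_iff_mem_closure.mp hηy)
    by_cases hηV : η ∈ V
    · exact Opens.mem_sup.mpr (Or.inl hηV)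
    · have hηO : η ∈ O := by
        intro h
        obtain ⟨ξ, hξ, hξη⟩ := Set.mem_iUnion₂.mp h
        have := ((Groth.Agent.FlatMor.GenericPts.closure_mem_irreducibleComponents_iff _).1 hη _
          (specializes_iff_mem_closure.mpr hξη))
        exact hηV ((specializes_iff_mem_closure.mpr hξη).antisymm this |>.eq ▸ hξ.2)
      exact Opens.mem_sup.mpr (Or.inr ⟨⟨η, hηO⟩, hFW hη, rfl⟩)
where
  finite_generic_of_irreducibleComponents' (h : (irreducibleComponents (X : Type u)).Finite) :
      {η : X | closure {η} ∈ irreducibleComponents (X : Type u)}.Finite :=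
    Set.Finite.of_finite_image (h.subset (Set.image_subset_iff.mpr fun _ hη => hη))
      fun a _ b _ hab => ((inseparable_iff_closure_eq).mpr hab).eq

variable {X}

omit [QuasiSeparatedSpace X] in
lemma effCartier_of_prod {ι : Type*} [Fintype ι] [DecidableEq ι] (H : ι → X.IdealSheafData)
    {X' : Scheme.{u}} (b : X' ⟶ X) (h : BlowUp.IsEffCartierIdeal ((∏ i, H i).comap b)) (i : ι) :
    BlowUp.IsEffCartierIdeal ((H i).comap b) := by
  rw [← Finset.mul_prod_erase Finset.univ H (Finset.mem_univ i), IdealSh.Comap.comap_mul] at h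
  exact IdealSh.EffCartier.factor_left h

/-- A blow-up in a multiple of ideals with affine complements has an ample family. -/
theorem exists_blowUp [CompactSpace X] (hfin : (irreducibleComponents (X : Type u)).Finite) :
    ∃ (U : X.Opens) (𝓘 : X.IdealSheafData) (X' : Scheme.{u}) (b : X' ⟶ X),
      IsCompact (U : Set ↥X) ∧ Dense (U : Set ↥X) ∧ BlowUp.IsAdmissibleFor U 𝓘 ∧ BlowUp.IsBlowUp b 𝓘 ∧
      MoreMor.HasAmpleFamily X' := by
  classical
  choose V hVa hxV hVd using exists_dense_affine X hfin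
  obtain ⟨t, ht⟩ := isCompact_univ.elim_finite_subcover (fun x : X => (V x : Set X)) (fun x => (V x).2)
    (fun x _ => Set.mem_iUnion.mpr ⟨x, hxV x⟩)
  choose H hH hHs using fun x => QDom.Global.exists_support_eq_compl (hVa x).isCompact
  let U : X.Opens := t.inf V
  have hU : IsCompact (U : Set X) ∧ Dense (U : Set X) := by
    have : ∀ s : Finset X, IsCompact ((s.inf V : X.Opens) : Set X) ∧ Dense ((s.inf V : X.Opens) : Set X) := by
      intro s
      induction s using Finset.induction with
      | empty => simpa using isCompact_univ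
      | @insert a s _ ih =>
        rw [Finset.inf_insert, Opens.coe_inf]
        exact ⟨QuasiSeparatedSpace.inter_isCompact _ _ (V a).2 (hVa a).isCompact (s.inf V).2 ih.1,
          (hVd a).inter_of_isOpen_left ih.2 (V a).2⟩
    exact this t
  have hadm : BlowUp.IsAdmissibleFor U (∏ x : t, H x) := by
    refine IdealSh.FinType.admissible_prod U (fun x : t => H x) Finset.univ fun x => ⟨hH _, ?_⟩
    rw [hHs]
    exact disjoint_compl_left.mono_right (Finset.inf_le x.2 : U ≤ V x.1)
  obtain ⟨X', b, hb⟩ := BlowUp.Glue.exists_isBlowUp X (∏ x : t, H x)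
  haveI : IsProper b := BlowUpProper.Basic.isProper hb hadm.1
  haveI : CompactSpace X' := QuasiCompact.compactSpace_of_compactSpace b
  haveI : QuasiSeparatedSpace X' := quasiSeparatedSpace_of_quasiSeparated b
  refine ⟨U, _, X', b, hU.1, hU.2, hadm, hb, inferInstance, fun y => ?_⟩
  obtain ⟨x, hxt, hyx⟩ := Set.mem_iUnion₂.mp (ht (Set.mem_univ (b y)))
  have hE : BlowUp.IsEffCartierIdeal ((H x).comap b) :=
    effCartier_of_prod (fun i : t => H i.1) b hb.1 ⟨x, hxt⟩
  obtain ⟨s, hs⟩ := CanonSection.exists_section_dual _ hE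
  have hP : PicF.IsInvertible (RefHull.homSh (ClSub.idealMod ((H x).comap b)) (Coh.structureModule X')) :=
    (CanonSection.tensor_dual (IdealSh.IdealMod.isInvertible_of_isEffCartierIdeal _ hE)).1
  have hUs : b ⁻¹ᵁ V x = CohB1.genLocus _ s := by
    refine Opens.ext ?_
    refine Eq.trans ?_ hs.symm
    rw [Scheme.IdealSheafData.support_comap]
    show (fun z => b z) ⁻¹' (V x : Set X) = ((fun z => b z) ⁻¹' ((H x).support : Set X))ᶜ
    rw [hHs, Set.preimage_compl, compl_compl]
  obtain ⟨hqc, hLi, hLV⟩ := AmpleLib.isRelAmple_iff.mp (BlowUp.RelAmple.isRelAmple_exceptional hb hadm.1)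
  obtain ⟨n, σ, hyσ, hσaff⟩ := (hLV ⟨V x, hVa x⟩).2 y hyx
  have hg : IsGen (CohB1.tensorPow (RefHull.homSh (ClSub.idealMod ((H x).comap b)) (Coh.structureModule X')) 1) (b ⁻¹ᵁ V x)
      (res _ ((hUs.trans (genLocus_eq_locus s)).le) (res _ (locus_le (sec s ⊤)) (sec s ⊤))) :=
    (isGen_locus (sec s ⊤)).restrict _
  obtain ⟨N, τ, hN, hτ⟩ := Pullback.exists_invertible_locus (isInvertible_tensorPow hLi (n + 1))
    hP s hUs (isGen_app_iso (KFlat.TensorLocFree.unitTensorIso _) hg) σ
  refine ⟨N, 1, homOfSec τ ≫ (KFlat.TensorLocFree.unitTensorIso N).inv, hN, le_rfl, ?_⟩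
  have he : CohB1.genLocus (CohB1.tensorPow N 1) (homOfSec τ ≫ (KFlat.TensorLocFree.unitTensorIso N).inv) =
      locus τ := by
    rw [← Iso.symm_hom, genLocus_comp_iso, genLocus_homOfSec]
  rw [he, hτ]
  exact ⟨hyσ, hσaff⟩

end Groth.Agent.AmpleFam.BlowUpFam
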