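import Groth.Agent.LineCoc.Basic
import Groth.Agent.AmpleFam.Pullback

/-!
# Ample families from affine covers with principal boundaries
-/

set_option autoImplicit false
set_option linter.style.haveILetI false
set_option backward.isDefEq.respectTransparency false
set_option backward.isDefEq.respectTransparency.types false

universe u

open CategoryTheory CategoryTheory.Limits AlgebraicGeometry TopologicalSpace Opposite

noncomputable section

namespace Groth.Agent.AmpleFam.Boundary

open Groth.Agent.QCoh Groth.Agent.Props.GenLocus Groth.Agent.AmpleLib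

variable {T : Scheme.{u}} {κ : Type u}

/-- Units on the traces on `U` of a family of opens meeting inside `U` give a cocycle. -/
def cocycle (U : T.Opens) (W : κ → T.Opens) (hc : ⊤ ≤ iSup W) (hW : ∀ k l, k ≠ l → W k ⊓ W l ≤ U)
    (v : ∀ k, Γ(T, U ⊓ W k)ˣ) : LineCoc.Cocycle T := by
  classical
  exact
  { ι := κ
    W := W
    cover := hc
    a := fun k l => if h : k = l then 1 else
      rres (le_inf (hW k l h) inf_le_left) ((v k)⁻¹ : Γ(T, U ⊓ W k)ˣ).1 *
        rres (le_inf (hW k l h) inf_le_right) (v l).1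
    self := fun k => dif_pos rfl
    coc := fun i j k V h₁ h₂ h₃ => by
      by_cases hij : i = j
      · subst hij; simp
      by_cases hjk : j = k
      · subst hjk; simp
      have hVU : V ≤ U := h₁.trans (hW i j hij)
      have hu : rres (le_inf hVU (h₁.trans inf_le_right) : V ≤ U ⊓ W j) (v j).1 *
          rres (le_inf hVU (h₁.trans inf_le_right)) ((v j)⁻¹ : Γ(T, U ⊓ W j)ˣ).1 = 1 := by
        rw [← map_mul, Units.mul_inv, map_one]
      rw [dif_neg hij, dif_neg hjk]
      by_cases hik : i = k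
      · subst hik
        rw [dif_pos rfl, map_one]
        simp only [map_mul, rres_rres]
        have hi : rres (le_inf hVU (h₁.trans inf_le_left) : V ≤ U ⊓ W i) ((v i)⁻¹ : Γ(T, U ⊓ W i)ˣ).1 *
            rres (le_inf hVU (h₁.trans inf_le_left)) (v i).1 = 1 := by
          rw [← map_mul, Units.inv_mul, map_one]
        linear_combination hi + (rres (le_inf hVU (h₁.trans inf_le_left) : V ≤ U ⊓ W i) ((v i)⁻¹ : Γ(T, U ⊓ W i)ˣ).1 *
            rres (le_inf hVU (h₁.trans inf_le_left)) (v i).1) * hu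
      · rw [dif_neg hik]
        simp only [map_mul, rres_rres]
        linear_combination (rres (le_inf hVU (h₁.trans inf_le_left) : V ≤ U ⊓ W i) ((v i)⁻¹ : Γ(T, U ⊓ W i)ˣ).1 *
            rres (le_inf hVU (h₂.trans inf_le_right) : V ≤ U ⊓ W k) (v k).1) * hu }

/-- A compatible family of functions is a global section of the module of a cocycle. -/
theorem exists_section_cocycle (C : LineCoc.Cocycle T) (s : ∀ k, Γ(T, C.W k))
    (hs : ∀ k l, rres (inf_le_left : C.W k ⊓ C.W l ≤ C.W k) (s k) =
      C.a k l * rres (inf_le_right : C.W k ⊓ C.W l ≤ C.W l) (s l)) :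
    ∃ (L : T.Modules) (n : ℕ) (σ : Coh.structureModule T ⟶ CohB1.tensorPow L n),
      PicF.IsInvertible L ∧ 1 ≤ n ∧ ∀ k, CohB1.genLocus _ σ ⊓ C.W k = T.basicOpen (s k) := by
  let τ : Γ(LineCoc.mod C, (⊤ : T.Opens)) :=
    (⟨fun k => rres (inf_le_right : (⊤ : T.Opens) ⊓ C.W k ≤ C.W k) (s k), fun k l => by
      have h := congrArg (rres (inf_le_right : (⊤ : T.Opens) ⊓ (C.W k ⊓ C.W l) ≤ C.W k ⊓ C.W l)) (hs k l)
      simp only [map_mul, rres_rres] at h ⊢
      exact h⟩ : LineCoc.fam C (⊤ : T.Opens))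
  have hres : ∀ k, res (LineCoc.mod C) (le_top : C.W k ≤ ⊤) τ = s k • LineCoc.gen C k := fun k => by
    refine Subtype.ext (funext fun l => ?_)
    show rres _ (rres _ (s l)) = rres _ (s k) * rres _ (C.a l k)
    have h1 := congrArg (rres (le_inf inf_le_right inf_le_left : C.W k ⊓ C.W l ≤ C.W l ⊓ C.W k)) (hs l k)
    simp only [map_mul, rres_rres] at h1 ⊢
    rw [h1, mul_comm]
  refine ⟨LineCoc.mod C, 1, homOfSec τ ≫ (KFlat.TensorLocFree.unitTensorIso _).inv,
    LineCoc.isInvertible C, le_rfl, fun k => ?_⟩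
  rw [← Iso.symm_hom, genLocus_comp_iso, genLocus_homOfSec, ← locus_res (le_top : C.W k ≤ ⊤) τ, hres k,
    locus_smul (LineCoc.isInvertible C)]
  refine inf_eq_left.mpr ((T.basicOpen_le _).trans ?_)
  exact le_locus le_rfl (by rw [res_self]; exact LineCoc.isGen_gen C k)

/-- An invertible module with a global section which is `s k` on `W k`. -/
theorem exists_section (U : T.Opens) (W : κ → T.Opens) (hc : ⊤ ≤ iSup W)
    (hW : ∀ k l, k ≠ l → W k ⊓ W l ≤ U) (v : ∀ k, Γ(T, U ⊓ W k)ˣ) (c : Γ(T, U))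
    (s : ∀ k, Γ(T, W k))
    (hs : ∀ k, (v k).1 * rres (inf_le_right : U ⊓ W k ≤ W k) (s k) = rres (inf_le_left : U ⊓ W k ≤ U) c) :
    ∃ (L : T.Modules) (n : ℕ) (σ : Coh.structureModule T ⟶ CohB1.tensorPow L n),
      PicF.IsInvertible L ∧ 1 ≤ n ∧ ∀ k, CohB1.genLocus _ σ ⊓ W k = T.basicOpen (s k) := by
  classical
  refine exists_section_cocycle (cocycle U W hc hW v) s fun (k l : κ) => ?_
  show rres (inf_le_left : W k ⊓ W l ≤ W k) (s k) = (if h : k = l then 1 else
      rres (le_inf (hW k l h) inf_le_left) ((v k)⁻¹ : Γ(T, U ⊓ W k)ˣ).1 *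
        rres (le_inf (hW k l h) inf_le_right) (v l).1) * rres (inf_le_right : W k ⊓ W l ≤ W l) (s l)
  by_cases h : k = l
  · subst h; rw [dif_pos rfl, one_mul]
  rw [dif_neg h]
  have h1 := congrArg (rres (le_inf (hW k l h) inf_le_left : W k ⊓ W l ≤ U ⊓ W k)) (hs k)
  have h2 := congrArg (rres (le_inf (hW k l h) inf_le_right : W k ⊓ W l ≤ U ⊓ W l)) (hs l)
  have hu : rres (le_inf (hW k l h) inf_le_left : W k ⊓ W l ≤ U ⊓ W k) (v k).1 *
      rres (le_inf (hW k l h) inf_le_left) ((v k)⁻¹ : Γ(T, U ⊓ W k)ˣ).1 = 1 := by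
    rw [← map_mul, Units.mul_inv, map_one]
  simp only [map_mul, rres_rres] at h1 h2 ⊢
  rw [mul_assoc, h2, ← h1, ← mul_assoc, mul_comm (rres _ ((v k)⁻¹).1), hu, one_mul]

/-- Sections invertible at every point are units. -/
lemma isUnit_of_le_basicOpen {O : T.Opens} (a : Γ(T, O)) (h : O ≤ T.basicOpen a) : IsUnit a :=
  RingedSpace.isUnit_of_isUnit_germ _ O a fun x hx => (T.mem_basicOpen a x hx).mp (h hx)

/-- An affine cover by a main open and opens with principal boundary gives an ample family. -/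
theorem hasAmpleFamily {T : Scheme.{u}} [CompactSpace T] {ι : Type u} (U : T.Opens) (hU : IsAffineOpen U)
    (W : ι → T.Opens) (hWa : ∀ i, IsAffineOpen (W i)) (hW : ∀ i j, i ≠ j → W i ⊓ W j ≤ U)
    (hc : ⊤ ≤ U ⊔ iSup W) (f : ∀ i, Γ(T, W i)) (hf : ∀ i, U ⊓ W i = T.basicOpen (f i))
    (h : ι → Γ(T, U)) (hh : ∀ i, U ⊓ W i = T.basicOpen (h i)) :
    MoreMor.HasAmpleFamily T := by
  classical
  let W' : Option ι → T.Opens := fun o => o.elim U W
  have hc' : ⊤ ≤ iSup W' := hc.trans (sup_le (le_iSup W' none) (iSup_le fun i => le_iSup W' (some i)))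
  have hW' : ∀ k l, k ≠ l → W' k ⊓ W' l ≤ U := by
    rintro (_ | i) (_ | j) hne
    · exact absurd rfl hne
    · exact inf_le_left
    · exact inf_le_right
    · exact hW i j fun e => hne (congrArg some e)
  have hfu : ∀ i, IsUnit (rres (inf_le_right : U ⊓ W i ≤ W i) (f i)) := fun i => by
    refine isUnit_of_le_basicOpen _ ?_
    rw [Scheme.basicOpen_res, ← hf, inf_idem]
  have hhu : ∀ i, IsUnit (rres (inf_le_left : U ⊓ W i ≤ U) (h i)) := fun i => by
    refine isUnit_of_le_basicOpen _ ?_
    rw [Scheme.basicOpen_res, ← hh, inf_idem]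
  refine ⟨inferInstance, fun x => ?_⟩
  obtain ⟨o, hxo⟩ := Opens.mem_iSup.mp (hc' (trivial : x ∈ (⊤ : T.Opens)))
  rcases o with _ | i
  · obtain ⟨L, n, σ, hL, hn, hσ⟩ := exists_section U W' hc' hW'
      (fun o => match o with | none => 1 | some i => (hfu i).unit⁻¹) 1
      (fun o => match o with | none => 1 | some i => f i) (by
        rintro (_ | i)
        · simp
        · show ((hfu i).unit⁻¹ : Γ(T, U ⊓ W i)ˣ).1 * _ = _
          rw [map_one]; exact (hfu i).val_inv_mul)
    have he : CohB1.genLocus _ σ = U := by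
      refine le_antisymm (fun y hy => ?_) fun y hy => ?_
      · obtain ⟨o, hyo⟩ := Opens.mem_iSup.mp (hc' (trivial : y ∈ (⊤ : T.Opens)))
        rcases o with _ | i
        · exact hyo
        · have h1 : y ∈ T.basicOpen (f i) := (hσ (some i)).le ⟨hy, hyo⟩
          rw [← hf] at h1
          exact h1.1
      · exact ((hσ none).ge ((T.basicOpen_of_isUnit isUnit_one).ge hy)).1
    exact ⟨L, n, σ, hL, hn, by rw [he]; exact hxo, by rw [he]; exact hU⟩
  · have hloc : ∀ j, ∃ (u : Γ(T, U ⊓ W j)ˣ) (t : Γ(T, W j)),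
        u.1 * rres (inf_le_right : U ⊓ W j ≤ W j) t = rres (inf_le_left : U ⊓ W j ≤ U) (h i) ∧
        if j = i then T.basicOpen t = W j else T.basicOpen t ≤ U := fun j => by
      by_cases hj : j = i
      · subst hj
        refine ⟨(hhu j).unit, 1, by rw [map_one, mul_one]; rfl, ?_⟩
        rw [if_pos rfl]
        exact T.basicOpen_of_isUnit isUnit_one
      · haveI := (hWa j).isLocalization_basicOpen (f j)
        have hle : T.basicOpen (f j) ≤ U := (hf j).ge.trans inf_le_left
        obtain ⟨⟨a, ⟨_, n, rfl⟩⟩, ha⟩ :=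
          IsLocalization.surj (Submonoid.powers (f j)) (rres hle (h i))
        refine ⟨((hfu j).unit⁻¹) ^ (n + 1), a * f j, ?_, ?_⟩
        · have h1 := congrArg (rres (hf j).le) ha
          change rres _ (rres hle (h i) * rres (T.basicOpen_le (f j)) (f j ^ n)) =
            rres _ (rres (T.basicOpen_le (f j)) a) at h1
          simp only [map_mul, map_pow, rres_rres] at h1
          rw [map_mul, ← h1, Units.val_pow_eq_pow_val, mul_assoc, ← pow_succ, mul_left_comm, ← mul_pow,
            (hfu j).val_inv_mul, one_pow, mul_one]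
        · rw [if_neg hj, Scheme.basicOpen_mul]
          exact inf_le_right.trans hle
    choose u t ht hb using hloc
    obtain ⟨L, n, σ, hL, hn, hσ⟩ := exists_section U W' hc' hW'
      (fun o => match o with | none => 1 | some j => u j) (h i)
      (fun o => match o with | none => h i | some j => t j) (by
        rintro (_ | j)
        · show (1 : Γ(T, U ⊓ U)ˣ).1 * _ = _
          rw [Units.val_one, one_mul]
          rfl
        · exact ht j)
    have he : CohB1.genLocus _ σ = W i := by
      refine le_antisymm (fun y hy => ?_) fun y hy => ?_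
      · have hU' : y ∈ U → y ∈ W i := fun hyU => by
          have h1 : y ∈ T.basicOpen (h i) := (hσ none).le ⟨hy, hyU⟩
          rw [← hh] at h1
          exact h1.2
        obtain ⟨o, hyo⟩ := Opens.mem_iSup.mp (hc' (trivial : y ∈ (⊤ : T.Opens)))
        rcases o with _ | j
        · exact hU' hyo
        · by_cases hji : j = i
          · exact hji ▸ hyo
          · have h1 : y ∈ T.basicOpen (t j) := (hσ (some j)).le ⟨hy, hyo⟩
            have h2 := hb j
            rw [if_neg hji] at h2
            exact hU' (h2 h1)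
      · have h2 := hb i
        rw [if_pos rfl] at h2
        exact ((hσ (some i)).ge (h2.ge hy)).1
    exact ⟨L, n, σ, hL, hn, by rw [he]; exact hxo, by rw [he]; exact hWa i⟩

end Groth.Agent.AmpleFam.Boundary
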