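import Groth.Agent.AmpleFam.Clopen
import Groth.Agent.AmpleFam.BlowUpFam
import Groth.Agent.CDLim.Basic
import Groth.Agent.HTopLib.Square
import Groth.Agent.S7383
import Groth.Agent.LimLib.FPSystem

/-!
# Proper completely decomposed covers with ample families
-/

set_option autoImplicit false
set_option linter.style.haveILetI false
set_option backward.isDefEq.respectTransparency false
set_option maxHeartbeats 800000

universe u

open CategoryTheory CategoryTheory.Limits AlgebraicGeometry TopologicalSpace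

noncomputable section

namespace Groth.Agent.AmpleFam.CdCover

/-- `f` has rational sections over the residue fields of all points of `C`. -/
def HasPts {Y X : Scheme.{u}} (f : Y ⟶ X) (C : Set X) : Prop :=
  ∀ x ∈ C, ∃ s : Spec (X.residueField x) ⟶ Y, s ≫ f = X.fromSpecResidueField x

theorem exists_cover_closed (X : Scheme.{u}) [IsNoetherian X] (C : Closeds X) :
    ∃ (Y : Scheme.{u}) (f : Y ⟶ X), IsProper f ∧ HasPts f (C : Set X) ∧ MoreMor.HasAmpleFamily Y := by
  induction C using WellFoundedLT.induction with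
  | _ C ih =>
  by_cases hC : (C : Set X) = ∅
  · let Z := (⊤ : X.IdealSheafData).subscheme
    exact ⟨Z, (⊤ : X.IdealSheafData).subschemeι, inferInstance,
      fun x hx => absurd hx (by rw [hC]; exact Set.notMem_empty x),
      inferInstance, fun z => isEmptyElim z⟩
  let I := Scheme.IdealSheafData.vanishingIdeal C
  let Z := I.subscheme
  let ι := I.subschemeι
  have hr : Set.range ι = (C : Set X) := by
    rw [Scheme.IdealSheafData.range_subschemeι, Scheme.IdealSheafData.coe_support_vanishingIdeal]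
  haveI : IsLocallyNoetherian Z := LocallyOfFiniteType.isLocallyNoetherian ι
  haveI : CompactSpace Z := QuasiCompact.compactSpace_of_compactSpace ι
  haveI : IsNoetherian Z := {}
  obtain ⟨U, 𝓘, Z', b, -, hUd, hadm, hb, hZ'⟩ :=
    BlowUpFam.exists_blowUp (X := Z) (NoetherianSpace.finite_irreducibleComponents (α := Z))
  haveI : IsProper b := BlowUpProper.Basic.isProper hb hadm.1
  haveI := BlowUp.Basic.isIso_restrict hb U hadm.2.symm
  let D : Closeds X := ⟨ι '' (U : Set Z)ᶜ, ι.isClosedEmbedding.isClosedMap _ U.2.isClosed_compl⟩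
  have hDC : D < C := by
    have hle : D ≤ C := by
      rintro _ ⟨z, -, rfl⟩
      exact hr.subset ⟨z, rfl⟩
    refine lt_of_le_of_ne hle fun hDC => ?_
    obtain ⟨x, hx⟩ := Set.nonempty_iff_ne_empty.mpr hC
    obtain ⟨z, rfl⟩ := hr.ge hx
    obtain ⟨u, -, hu⟩ := hUd.inter_open_nonempty Set.univ isOpen_univ ⟨z, trivial⟩
    have : ι u ∈ (D : Set X) := by rw [hDC]; exact hr.subset ⟨u, rfl⟩
    obtain ⟨v, hv, hvu⟩ := this
    exact hv (ι.isClosedEmbedding.injective hvu ▸ hu)
  obtain ⟨Y, g, hg, hgp, hY⟩ := ih D hDC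
  haveI : IsProper (b ≫ ι) := inferInstance
  haveI := HTopLib.isProper_coprodDesc (b ≫ ι) g
  haveI : QuasiSeparatedSpace ↥(Z' ⨿ Y : Scheme.{u}) :=
    quasiSeparatedSpace_of_quasiSeparated (coprod.desc (b ≫ ι) g)
  refine ⟨Z' ⨿ Y, coprod.desc (b ≫ ι) g, inferInstance, ?_, Clopen.hasAmpleFamily_coprod hZ' hY⟩
  intro x hx
  obtain ⟨z, rfl⟩ := hr.ge hx
  by_cases hzU : z ∈ U
  · obtain ⟨t, ht⟩ := CDLim.exists_section_of_bijective ι z
      (CDLim.residueFieldMap_bijective_of_isPreimmersion ι z)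
    have htU : Set.range t ⊆ Set.range U.ι := by
      rw [Scheme.Opens.range_ι]
      rintro _ ⟨a, rfl⟩
      have : t a = z := ι.isClosedEmbedding.injective (by
        rw [← Scheme.Hom.comp_apply, ht]
        exact Scheme.fromSpecResidueField_apply (ι z) a)
      rw [this]; exact hzU
    refine ⟨(IsOpenImmersion.lift U.ι t htU ≫ inv (b ∣_ U) ≫ (b ⁻¹ᵁ U).ι) ≫ coprod.inl, ?_⟩
    rw [Category.assoc, coprod.inl_desc, Category.assoc, Category.assoc, ← morphismRestrict_ι_assoc,
      IsIso.inv_hom_id_assoc, IsOpenImmersion.lift_fac_assoc, ht]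
  · obtain ⟨s, hs⟩ := hgp (ι z) ⟨z, hzU, rfl⟩
    exact ⟨s ≫ coprod.inr, by rw [Category.assoc, coprod.inr_desc, hs]⟩

theorem exists_cover (X : Scheme.{u}) [CompactSpace X] [QuasiSeparatedSpace X] :
    ∃ (Y : Scheme.{u}) (f : Y ⟶ X), IsProper f ∧ LocallyOfFinitePresentation f ∧
      (∀ x : X, ∃ y : Y, f y = x ∧ Function.Bijective (f.residueFieldMap y)) ∧ MoreMor.HasAmpleFamily Y := by
  let S := Spec (CommRingCat.of (ULift.{u} ℤ))
  obtain ⟨I, _, _, _, D, c, hc, hD, haff, ⟨e⟩⟩ := S7383.result (specULiftZIsTerminal.from X)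
  have (i j : Iᵒᵖ) (a : i ⟶ j) : IsAffineHom ((D ⋙ Over.forget S).map a) := haff i j a
  obtain ⟨i⟩ := IsCofiltered.nonempty (C := Iᵒᵖ)
  haveI : IsAffineHom (c.π.app i).left :=
    isAffineHom_π_app (D ⋙ Over.forget S) _ (LimLib.isLimitForget hc).some i
  obtain ⟨_, _, _⟩ := hD i
  haveI : IsNoetherianRing (ULift.{u} ℤ) := isNoetherianRing_of_ringEquiv ℤ ULift.ringEquiv.symm
  haveI : IsLocallyNoetherian (D.obj i).left := LocallyOfFiniteType.isLocallyNoetherian (D.obj i).hom
  haveI : CompactSpace (D.obj i).left := QuasiCompact.compactSpace_of_compactSpace (D.obj i).hom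
  haveI : IsNoetherian (D.obj i).left := {}
  let π : X ⟶ (D.obj i).left := e.inv.left ≫ (c.π.app i).left
  haveI : IsIso e.inv.left := inferInstanceAs (IsIso ((Over.forget S).map e.inv))
  haveI : IsAffineHom π := inferInstanceAs (IsAffineHom (_ ≫ _))
  obtain ⟨Y₀, f₀, hf₀, hp, hY₀⟩ := exists_cover_closed (D.obj i).left ⊤
  haveI : IsAffineHom (pullback.snd π f₀) :=
    MorphismProperty.pullback_snd (P := @IsAffineHom) π f₀ inferInstance
  refine ⟨pullback π f₀, pullback.fst π f₀, inferInstance, inferInstance, fun x => ?_,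
    Pullback.hasAmpleFamily_of_qaMor (pullback.snd π f₀) (Pullback.qaMor_of_isAffineHom _) hY₀⟩
  obtain ⟨s, hs⟩ := hp (π x) trivial
  exact CDLim.exists_bijective_of_section _ x
    (pullback.lift (X.fromSpecResidueField x) (Spec.map (π.residueFieldMap x) ≫ s)
      (by rw [Category.assoc, hs, Scheme.Hom.SpecMap_residueFieldMap_fromSpecResidueField]))
    (pullback.lift_fst _ _ _)

end Groth.Agent.AmpleFam.CdCover
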