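import Groth.Agent.AmpleFam.Pullback
import Groth.Agent.S4417

/-!
# Ample families on a disjoint union
-/

set_option autoImplicit false
set_option linter.style.haveILetI false
set_option backward.isDefEq.respectTransparency false

universe u

open CategoryTheory CategoryTheory.Limits AlgebraicGeometry TopologicalSpace

noncomputable section

namespace Groth.Agent.AmpleFam.Clopen

open Groth.Agent.QCoh Groth.Agent.Props.GenLocus Groth.Agent.Props.GenTensor Groth.Agent.Props.GenProd
  Groth.Agent.AmpleLib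

variable {T : Scheme.{u}}

attribute [local instance] preservesBinaryBiproducts_of_preservesBinaryCoproducts

/-- The characteristic function of one of two complementary opens. -/
theorem exists_indicator (O O' : T.Opens) (hd : Disjoint O O') (hc : O ⊔ O' = ⊤) :
    ∃ a : Γ(T, (⊤ : T.Opens)), T.basicOpen a = O := by
  let U : Bool → T.Opens := fun c => cond c O O'
  let sf : ∀ c, Γ(T, U c) := fun c => if c = true then 1 else 0
  have hcompat : TopCat.Presheaf.IsCompatible T.presheaf U sf := by
    intro c d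
    rcases eq_or_ne c d with rfl | hcd
    · rfl
    · have h0 : U c ⊓ U d = ⊥ := by
        cases c <;> cases d <;> simp_all [U, hd.eq_bot, inf_comm]
      exact Subsingleton.elim (h := h0 ▸ inferInstanceAs (Subsingleton Γ(T, (⊥ : T.Opens)))) _ _
  obtain ⟨a, ha, -⟩ := T.sheaf.existsUnique_gluing' U ⊤ (fun c => homOfLE le_top)
    (by rw [← hc]; exact sup_le (le_iSup U true) (le_iSup U false)) sf hcompat
  refine ⟨a, le_antisymm (fun x hx => ?_) fun x hx => ?_⟩
  · rcases Opens.mem_sup.mp (hc.ge (trivial : x ∈ (⊤ : T.Opens))) with h | h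
    · exact h
    · have h1 : x ∈ T.basicOpen (rres (le_top : U false ≤ ⊤) a) := by
        rw [Scheme.basicOpen_res]; exact ⟨h, hx⟩
      erw [show rres (le_top : U false ≤ ⊤) a = 0 from ha false, Scheme.basicOpen_zero] at h1
      exact h1.elim
  · have h1 : x ∈ T.basicOpen (rres (le_top : U true ≤ ⊤) a) := by
      erw [show rres (le_top : U true ≤ ⊤) a = 1 from ha true, Scheme.basicOpen_of_isUnit _ isUnit_one]
      exact hx
    rw [Scheme.basicOpen_res] at h1
    exact h1.2

/-- An invertible module on one of two complementary opens extends. -/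
theorem exists_extend (O O' : T.Opens) (hd : Disjoint O O') (hc : O ⊔ O' = ⊤) {L : O.toScheme.Modules}
    (hL : PicF.IsInvertible L) :
    ∃ N : T.Modules, PicF.IsInvertible N ∧ Nonempty ((Scheme.Modules.pullback O.ι).obj N ≅ L) := by
  let L' := Coh.structureModule O'.toScheme
  let N : T.Modules := (Scheme.Modules.pushforward O.ι).obj L ⊞ (Scheme.Modules.pushforward O'.ι).obj L'
  have hr : Disjoint (Set.range O.ι) (Set.range O'.ι) := by
    simp only [Scheme.Opens.range_ι]
    exact Set.disjoint_left.mpr fun x h h' => (hd.le_bot ⟨h, h'⟩).elim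
  let e : N.restrict O.ι ≅ L :=
    (Scheme.Modules.restrictFunctor O.ι).mapBiprod _ _ ≪≫
      (isoBiprodZero (S4417.isZero_restrict_pushforward _ _ hr L')).symm ≪≫
      (Scheme.Modules.restrictFunctorAdjCounitIso _).app L
  let e' : N.restrict O'.ι ≅ L' :=
    (Scheme.Modules.restrictFunctor O'.ι).mapBiprod _ _ ≪≫
      (isoZeroBiprod (S4417.isZero_restrict_pushforward _ _ hr.symm L)).symm ≪≫
      (Scheme.Modules.restrictFunctorAdjCounitIso _).app L'
  refine ⟨N, isInvertible_of_forall_restrict (fun c : Bool => cond c O O') ?_ ?_,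
    ⟨((Scheme.Modules.restrictFunctorIsoPullback O.ι).app N).symm ≪≫ e⟩⟩
  · rw [← hc]; exact sup_le (le_iSup (fun c : Bool => cond c O O') true) (le_iSup (fun c : Bool => cond c O O') false)
  · rintro (_ | _)
    · exact PicCl.isInvertible_of_iso e'.symm (PicLoc.isInvertible_structureModule _)
    · exact PicCl.isInvertible_of_iso e.symm hL

theorem exists_datum [CompactSpace T] [QuasiSeparatedSpace T] (O O' : T.Opens) (hd : Disjoint O O')
    (hc : O ⊔ O' = ⊤) (hO : MoreMor.HasAmpleFamily O.toScheme) {x : T} (hx : x ∈ O) :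
    ∃ (L : T.Modules) (n : ℕ) (s : Coh.structureModule T ⟶ CohB1.tensorPow L n),
      PicF.IsInvertible L ∧ 1 ≤ n ∧ x ∈ CohB1.genLocus (CohB1.tensorPow L n) s ∧
        IsAffineOpen (CohB1.genLocus (CohB1.tensorPow L n) s) := by
  obtain ⟨L, n, s, hL, hn, hxs, haff⟩ := hO.2 ⟨x, hx⟩
  obtain ⟨N, hN, ⟨e⟩⟩ := exists_extend O O' hd hc hL
  obtain ⟨ρ, hρ⟩ := exists_push hN O (s ≫ (tensorPowIso e n).inv)
  have hloc : O.ι ''ᵁ CohB1.genLocus _ s = locus ρ := by
    rw [← hρ, ← Iso.symm_hom, genLocus_comp_iso]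
  obtain ⟨a, ha⟩ := exists_indicator O O' hd hc
  obtain ⟨τ, hτ⟩ := exists_locus_eq (isInvertible_tensorPow hN n) isCompact_univ
    (isQuasiSeparated_univ_iff.mpr inferInstance) a ha.symm ρ
  refine ⟨N, n, homOfSec τ, hN, hn, ?_, ?_⟩
  · rw [genLocus_homOfSec, hτ, ← hloc]
    exact ⟨⟨x, hx⟩, hxs, rfl⟩
  · rw [genLocus_homOfSec, hτ, ← hloc]
    exact haff.image_of_isOpenImmersion O.ι

/-- A disjoint union of two schemes with ample families has one. -/
theorem hasAmpleFamily_coprod {A B : Scheme.{u}} [QuasiSeparatedSpace ↥(A ⨿ B : Scheme.{u})]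
    (hA : MoreMor.HasAmpleFamily A) (hB : MoreMor.HasAmpleFamily B) :
    MoreMor.HasAmpleFamily (A ⨿ B) := by
  haveI := hA.1
  haveI := hB.1
  let O := (coprod.inl : A ⟶ A ⨿ B).opensRange
  let O' := (coprod.inr : B ⟶ A ⨿ B).opensRange
  have hc := isCompl_opensRange_inl_inr A B
  have hA' : MoreMor.HasAmpleFamily O.toScheme :=
    Pullback.hasAmpleFamily_of_qaMor (coprod.inl : A ⟶ A ⨿ B).isoOpensRange.inv
      (Pullback.qaMor_of_isAffineHom _) hA
  have hB' : MoreMor.HasAmpleFamily O'.toScheme :=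
    Pullback.hasAmpleFamily_of_qaMor (coprod.inr : B ⟶ A ⨿ B).isoOpensRange.inv
      (Pullback.qaMor_of_isAffineHom _) hB
  haveI : CompactSpace ↥(A ⨿ B : Scheme.{u}) := ⟨by
    have h := congrArg (fun U : (A ⨿ B).Opens => (U : Set ↥(A ⨿ B : Scheme.{u}))) hc.sup_eq_top
    simp only [Opens.coe_sup, Opens.coe_top] at h
    rw [← h]
    exact (isCompact_range (coprod.inl : A ⟶ A ⨿ B).continuous).union
      (isCompact_range (coprod.inr : B ⟶ A ⨿ B).continuous)⟩
  refine ⟨inferInstance, fun x => ?_⟩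
  rcases Opens.mem_sup.mp (hc.sup_eq_top.ge (trivial : x ∈ (⊤ : (A ⨿ B).Opens))) with h | h
  · exact exists_datum O O' hc.disjoint hc.sup_eq_top hA' h
  · exact exists_datum O' O hc.disjoint.symm (by rw [sup_comm]; exact hc.sup_eq_top) hB' h

end Groth.Agent.AmpleFam.Clopen
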