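import Groth.Agent.S1687
import Groth.Agent.GrpScheme.DivSection
import Groth.Agent.Props.Components
import Groth.Prelude.Def_MoreMor

/-!
# Ample families on locally factorial Noetherian schemes with affine intersections of affines

Every point lies in a dense affine open, whose complement is the support of an effective Cartier divisor.
-/

set_option autoImplicit false
set_option linter.style.haveILetI false

universe u

open CategoryTheory Limits AlgebraicGeometry TopologicalSpace

noncomputable section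

namespace Groth.Agent.AmpleFam.Factorial

variable {X : Scheme.{u}} [IsNoetherian X]

open Classical in
theorem exists_dense_affine (hdom : ∀ y : X, IsDomain (X.presheaf.stalk y)) (x : X) :
    ∃ U : X.Opens, x ∈ U ∧ IsAffineOpen U ∧ Dense (U : Set X) := by
  have hfin : (irreducibleComponents (X : Type u)).Finite := NoetherianSpace.finite_irreducibleComponents
  have hopen : ∀ Z ∈ irreducibleComponents (X : Type u), IsOpen Z := fun Z hZ =>
    Props.Components.isOpen_of_locally_finite hdom
      (fun y => ⟨⊤, trivial, hfin.subset fun W hW => hW.1⟩) Z hZ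
  have hpick : ∀ Z : irreducibleComponents (X : Type u), ∃ p : X, p ∈ Z.1 ∧ (x ∈ Z.1 → p = x) := fun Z => by
    by_cases hx : x ∈ Z.1
    · exact ⟨x, hx, fun _ => rfl⟩
    · obtain ⟨p, hp⟩ := Z.2.1.1
      exact ⟨p, hp, fun h => absurd h hx⟩
  choose p hp hpx using hpick
  have hV : ∀ Z : irreducibleComponents (X : Type u),
      ∃ V : X.Opens, IsAffineOpen V ∧ p Z ∈ V ∧ (V : Set X) ⊆ Z.1 := fun Z => by
    obtain ⟨_, ⟨V, hV, rfl⟩, hxV, hVZ⟩ :=
      X.isBasis_affineOpens.exists_subset_of_mem_open (hp Z) (hopen _ Z.2)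
    exact ⟨V, hV, hxV, hVZ⟩
  choose V hV hpV hVZ using hV
  haveI := hfin.to_subtype
  refine ⟨iSup V, ?_, IsAffineOpen.iSup_of_disjoint hV fun Z Z' hne => ?_, fun y => ?_⟩
  · let Z₀ : irreducibleComponents (X : Type u) :=
      ⟨irreducibleComponent x, irreducibleComponent_mem_irreducibleComponents x⟩
    exact Opens.mem_iSup.mpr ⟨Z₀, hpx Z₀ mem_irreducibleComponent ▸ hpV Z₀⟩
  · show Disjoint (V Z) (V Z')
    rw [← Opens.coe_disjoint]
    refine Set.disjoint_left.mpr fun y hy hy' => hne (Subtype.ext ?_)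
    exact (Props.Components.existsUnique_component hdom y).unique ⟨Z.2, hVZ Z hy⟩ ⟨Z'.2, hVZ Z' hy'⟩
  · let Z₀ : irreducibleComponents (X : Type u) :=
      ⟨irreducibleComponent y, irreducibleComponent_mem_irreducibleComponents y⟩
    have h := subset_closure_inter_of_isPreirreducible_of_isOpen Z₀.2.1.2 (V Z₀).2
      ⟨p Z₀, hp Z₀, hpV Z₀⟩ (mem_irreducibleComponent : y ∈ Z₀.1)
    exact closure_mono (fun z hz => Opens.mem_iSup.mpr ⟨Z₀, hz.2⟩) h

/-- Locally factorial Noetherian schemes with affine intersections have an ample family. -/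
theorem hasAmpleFamily (hΔ : ∀ V W : X.Opens, IsAffineOpen V → IsAffineOpen W → IsAffineOpen (V ⊓ W))
    (hufd : ∀ y : X, IsDomain (X.presheaf.stalk y) ∧ UniqueFactorizationMonoid (X.presheaf.stalk y)) :
    MoreMor.HasAmpleFamily X := by
  refine ⟨inferInstance, fun x => ?_⟩
  obtain ⟨U, hxU, hU, hdense⟩ := exists_dense_affine (fun y => (hufd y).1) x
  obtain ⟨D, hD, hsupp⟩ := Groth.Agent.S1687.result X hΔ U hU hdense fun y _ => hufd y
  obtain ⟨L, s, hL, hs⟩ := GrpScheme.DivSection.exists_section D hD
  have he : CohB1.genLocus _ s = U := Opens.ext (by rw [hs, hsupp, compl_compl])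
  exact ⟨L, 1, s, hL, le_rfl, he ▸ hxU, he ▸ hU⟩

end Groth.Agent.AmpleFam.Factorial
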