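import Groth.Agent.AmpleFam.Basic
import Groth.Agent.KFlat.TensorLocFree
import Groth.Agent.ProjTwist.Tensor
import Groth.Agent.PicLaw.Swap
import Groth.Prelude.Def_MoreMor
import Groth.Prelude.Def_PerfAux
import Mathlib.Topology.Constructible

/-!
# An ample family gives the resolution property
-/

set_option autoImplicit false
set_option linter.style.haveILetI false

universe u

open CategoryTheory CategoryTheory.Limits AlgebraicGeometry TopologicalSpace

noncomputable section

namespace Groth.Agent.AmpleFam.Resolution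

variable {X : Scheme.{u}}

theorem isFinLocFree_biproduct {k : ℕ} (N : Fin k → X.Modules) (h : ∀ j, FlatMod.IsFinLocFree (N j)) :
    FlatMod.IsFinLocFree (⨁ N) :=
  KFlat.LocFree.isFinLocFree_of_iso (biproduct.isoCoproduct N).symm
    (KFlat.TensorLocFree.isFinLocFree_sigma N Finset.univ (fun i hi => absurd (Finset.mem_univ i) hi) h)

theorem isFinLocFree_of_isInvertible {L : X.Modules} (hL : PicF.IsInvertible L) :
    FlatMod.IsFinLocFree L := fun y => by
  obtain ⟨U, hU, e⟩ := ProjTwist.isFinLocFreeOfRank_one hL y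
  exact ⟨U, 1, hU, e⟩

/-- A negative power of an invertible module is finite locally free. -/
theorem isFinLocFree_of_inAddL {ι : Type u} {L : ι → X.Modules} (hL : ∀ i, PicF.IsInvertible (L i))
    {M : X.Modules} (h : KSix.InAddL L M) : FlatMod.IsFinLocFree M := by
  obtain ⟨k, N, hN, ⟨e⟩⟩ := h
  refine KFlat.LocFree.isFinLocFree_of_iso e.symm (isFinLocFree_biproduct N fun j => ?_)
  obtain ⟨i, n, -, ⟨φ⟩⟩ := hN j
  exact isFinLocFree_of_isInvertible (PicLaw.isInvertible_of_tensor_right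
    (AmpleLib.isInvertible_tensorPow (hL i) n)
    (PicCl.isInvertible_of_iso φ.symm (AmpleLib.isInvertible_tensorPow (hL i) 0)))

/-- An ample family in the sense of `MoreMor` is one in the sense of `KSix`. -/
theorem exists_isAmpleFamily (hX : MoreMor.HasAmpleFamily X) :
    ∃ (ι : Type u) (L : ι → X.Modules), KSix.IsAmpleFamily L := by
  obtain ⟨hc, h⟩ := hX
  choose L n s hL hn hx haff using h
  choose m hm using fun x => Nat.exists_eq_add_of_le (hn x)
  refine ⟨X, L, hc, ?_, hL, fun x => ?_⟩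
  · let U : X → X.Opens := fun x => CohB1.genLocus _ (s x)
    have hqs : ∀ y, IsQuasiSeparated (U y : Set X) := fun y =>
      (isQuasiSeparated_iff_quasiSeparatedSpace _ (U y).2).2
        (haveI : IsAffine (U y : Scheme.{u}) := haff y; inferInstanceAs (QuasiSeparatedSpace (U y : Scheme.{u})))
    refine QuasiSeparatedSpace.of_isOpenCover (U := U) (IsOpenCover.mk (top_le_iff.mp fun x _ =>
      Opens.mem_iSup.mpr ⟨x, hx x⟩)) (fun x V hVc hVo => ?_) hqs
    have hcov : ∀ z ∈ V, ∃ W : X.Opens, z ∈ W ∧ IsCompact (W : Set X) ∧ (W : Set X) ⊆ V ∩ U z := by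
      intro z hz
      obtain ⟨W, hW, hzW, hWU⟩ :=
        exists_isAffineOpen_mem_and_subset (X := X) (x := z) (U := ⟨V, hVo⟩ ⊓ U z) ⟨hz, hx z⟩
      exact ⟨W, hzW, hW.isCompact, hWU⟩
    choose W hzW hWc hWV using hcov
    obtain ⟨t, ht⟩ := hVc.elim_finite_subcover (fun z : V => (W z.1 z.2 : Set X)) (fun z => (W z.1 z.2).2)
      fun z hz => Set.mem_iUnion.mpr ⟨⟨z, hz⟩, hzW z hz⟩
    have key : (U x : Set X) ∩ V = ⋃ z ∈ t, ((U x : Set X) ∩ U z.1) ∩ W z.1 z.2 := by
      refine Set.Subset.antisymm (fun p hp => ?_) (Set.iUnion₂_subset fun z _ p hp => ⟨hp.1.1, (hWV z.1 z.2 hp.2).1⟩)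
      obtain ⟨z, hz, hpz⟩ := Set.mem_iUnion₂.mp (ht hp.2)
      exact Set.mem_iUnion₂.mpr ⟨z, hz, ⟨hp.1, (hWV z.1 z.2 hpz).2⟩, hpz⟩
    rw [key]
    refine t.isCompact_biUnion fun z _ => ?_
    refine hqs z.1 _ _ Set.inter_subset_right ((U x).2.inter (U z.1).2) ?_ (fun p hp => (hWV z.1 z.2 hp).2)
      (W z.1 z.2).2 (hWc z.1 z.2)
    rw [Set.inter_comm]
    exact (AmpleLib.isAffineOpen_inf_genLocus (AmpleLib.isInvertible_tensorPow (hL z.1) _) (s z.1)
      (haff x)).isCompact
  · have : ∀ (k : ℕ) (t : Coh.structureModule X ⟶ CohB1.tensorPow (L x) k), x ∈ CohB1.genLocus _ t →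
        IsAffineOpen (CohB1.genLocus _ t) → k = m x + 1 → ∃ (i : X) (a : ℕ)
          (t' : Coh.structureModule X ⟶ CohB1.tensorPow (L i) (a + 1)),
          x ∈ CohB1.genLocus _ t' ∧ IsAffineOpen (CohB1.genLocus _ t') := by
      rintro _ t h1 h2 rfl
      exact ⟨x, m x, t, h1, h2⟩
    exact this _ (s x) (hx x) (haff x) (by rw [hm x, Nat.add_comm])

/-- An ample family gives the resolution property. -/
theorem hasResolutionProperty (hX : MoreMor.HasAmpleFamily X) : PerfAux.HasResolutionProperty X :=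
  fun M hM hM' => by
    obtain ⟨ι, L, hL⟩ := exists_isAmpleFamily hX
    obtain ⟨E, π, hE, hπ⟩ := Basic.exists_epi hL hM hM'
    exact ⟨E, π, isFinLocFree_of_inAddL hL.2.2.1 hE, hπ⟩

end Groth.Agent.AmpleFam.Resolution
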