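import Groth.Agent.AmpleFam.Boundary
import Groth.Agent.AmpleFam.BlowUpFam
import Groth.Agent.GrpdLib.InvAffine

/-!
# Thick open neighbourhoods with ample families
-/

set_option autoImplicit false
set_option linter.style.haveILetI false
set_option backward.isDefEq.respectTransparency false

universe u

open CategoryTheory CategoryTheory.Limits AlgebraicGeometry TopologicalSpace

noncomputable section

namespace Groth.Agent.AmpleFam.Thick

open Groth.Agent.QCoh

variable {X : Scheme.{u}}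

/-- A point whose local ring has dimension at most one has no proper chain of two generizations. -/
theorem no_chain {x : X} (hx : ringKrullDim (X.presheaf.stalk x) ≤ 1) {y z : X} (hzy : z ⤳ y)
    (hyx : y ⤳ x) (h1 : z ≠ y) (h2 : y ≠ x) : False := by
  obtain ⟨p, hp⟩ : ∃ p : PrimeSpectrum (X.presheaf.stalk x), X.fromSpecStalk x p = z := by
    obtain ⟨p, hp⟩ := (Scheme.range_fromSpecStalk).ge (show z ∈ {w | w ⤳ x} from hzy.trans hyx)
    exact ⟨p, hp⟩
  obtain ⟨q, hq⟩ : ∃ q : PrimeSpectrum (X.presheaf.stalk x), X.fromSpecStalk x q = y := by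
    obtain ⟨q, hq⟩ := (Scheme.range_fromSpecStalk).ge (show y ∈ {w | w ⤳ x} from hyx)
    exact ⟨q, hq⟩
  obtain ⟨m, hm⟩ : ∃ m : PrimeSpectrum (X.presheaf.stalk x), X.fromSpecStalk x m = x :=
    ⟨IsLocalRing.closedPoint (X.presheaf.stalk x), Scheme.fromSpecStalk_closedPoint⟩
  have hi := (X.fromSpecStalk x).isEmbedding.isInducing
  have hpq : p < q := lt_of_le_of_ne ((PrimeSpectrum.le_iff_specializes p q).mpr
    (hi.specializes_iff.mp (hp.symm ▸ hq.symm ▸ hzy))) fun e => h1 (by subst e; exact hp.symm.trans hq)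
  have hqm : q < m := lt_of_le_of_ne ((PrimeSpectrum.le_iff_specializes q m).mpr
    (hi.specializes_iff.mp (hq.symm ▸ hm.symm ▸ hyx))) fun e => h2 (by subst e; exact hq.symm.trans hm)
  let c : LTSeries (PrimeSpectrum (X.presheaf.stalk x)) :=
    ⟨2, ![p, q, m], Fin.forall_fin_two.mpr ⟨hpq, hqm⟩⟩
  have h3 := Order.LTSeries.length_le_krullDim c
  have h4 : ((2 : ℕ) : WithBot ℕ∞) ≤ ((1 : ℕ) : WithBot ℕ∞) := h3.trans (by exact_mod_cast hx)
  norm_num at h4

variable [IsNoetherian X]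

/-- A boundary point has an affine neighbourhood with principal boundary. -/
theorem exists_nhd (U : X.Opens) (hU : IsAffineOpen U) (hUd : Dense (U : Set X)) (y : X) (hy : y ∉ U)
    (hdim : ringKrullDim (X.presheaf.stalk y) ≤ 1) :
    ∃ (W : X.Opens) (f : Γ(X, W)) (h : Γ(X, U)), IsAffineOpen W ∧ y ∈ W ∧
      (W : Set X) \ U ⊆ closure {y} ∧ U ⊓ W = X.basicOpen f ∧ U ⊓ W = X.basicOpen h := by
  classical
  obtain ⟨_, ⟨W₀, hW₀, rfl⟩, hyW₀, -⟩ :=
    X.isBasis_affineOpens.exists_subset_of_mem_open (Set.mem_univ y) isOpen_univ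
  let G : Set X := {η | closure {η} ∈ irreducibleComponents (X : Type u) ∧ η ⤳ y}
  have hG : G.Finite :=
    (BlowUpFam.exists_dense_affine.finite_generic_of_irreducibleComponents' X
      (NoetherianSpace.finite_irreducibleComponents)).subset fun η h => h.1
  have hGU : G ⊆ (U : Set X) := fun η hη =>
    Groth.Agent.FlatMor.GenericPts.mem_of_dense hUd hη.1
  have hGW₀ : G ⊆ (W₀ : Set X) := fun η hη => hη.2.mem_open W₀.2 hyW₀
  obtain ⟨h₀, hh₀, hGh₀⟩ := GrpdLib.exists_basicOpen_le_of_finite hU (U := W₀) hG hGW₀ hGU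
  obtain ⟨f₀, hf₀, hGf₀⟩ := GrpdLib.exists_basicOpen_le_of_finite hW₀ (U := X.basicOpen h₀) hG hGh₀ hGW₀
  -- the closed complement of `D(f₀)` in `W₀`, without the closure of `y`
  let Z : Closeds X := ⟨(X.basicOpen f₀ : Set X)ᶜ, (X.basicOpen f₀).2.isClosed_compl⟩
  obtain ⟨S, hSf, hSc, hSi, hSZ⟩ := NoetherianSpace.exists_finite_set_isClosed_irreducible Z.isClosed
  let B : Set X := ⋃₀ {s ∈ S | y ∉ s}
  have hB : IsClosed B := by
    rw [show B = ⋃ s ∈ {s ∈ S | y ∉ s}, s from Set.sUnion_eq_biUnion]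
    exact (hSf.subset fun s hs => hs.1).isClosed_biUnion fun s hs => hSc s hs.1
  obtain ⟨g, hgle, hyg⟩ := hW₀.exists_basicOpen_le (V := ⟨Bᶜ, hB.isOpen_compl⟩) ⟨y, by
    rintro ⟨s, ⟨-, hs⟩, hys⟩; exact hs hys⟩ hyW₀
  have hcomp : ∀ s ∈ S, y ∈ s → s ⊆ closure {y} := by
    intro s hs hys
    have hgen := (hSi s hs).isGenericPoint_genericPoint (hSc s hs)
    set z := (hSi s hs).genericPoint
    by_cases hzy : z = y
    · rw [← hzy, hgen.def]
    · have hzs : z ⤳ y := hgen.specializes hys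
      have hzZ : z ∈ (Z : Set X) := by rw [hSZ]; exact ⟨s, hs, hgen.mem⟩
      obtain ⟨η, hη, hηz⟩ := Groth.Agent.FlatMor.GenericPts.exists_generic_specializes z
      by_cases hηz' : η = z
      · exact absurd (hGf₀ ⟨hη, hηz.trans hzs⟩) (by rw [hηz']; exact hzZ)
      · exact (no_chain hdim hηz hzs hηz' hzy).elim
  have hdiff : ∀ w ∈ X.basicOpen g, w ∉ X.basicOpen f₀ → w ∈ closure {y} := fun w hw hwf => by
    obtain ⟨s, hs, hws⟩ : w ∈ ⋃₀ S := by rw [← hSZ]; exact hwf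
    by_cases hys : y ∈ s
    · exact hcomp s hs hys hws
    · exact absurd ⟨s, ⟨hs, hys⟩, hws⟩ (hgle hw)
  have heq : U ⊓ X.basicOpen g = X.basicOpen g ⊓ X.basicOpen f₀ := by
    refine le_antisymm (fun w hw => ⟨hw.2, ?_⟩) fun w hw => ⟨X.basicOpen_le h₀ (hf₀ hw.2), hw.1⟩
    by_contra hwf
    exact hy ((specializes_iff_mem_closure.mpr (hdiff w hw.2 hwf)).mem_open U.2 hw.1)
  haveI := hU.isLocalization_basicOpen h₀
  obtain ⟨⟨a, ⟨_, m, rfl⟩⟩, ha⟩ := IsLocalization.surj (Submonoid.powers h₀)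
    (rres hh₀ (g * f₀) : Γ(X, X.basicOpen h₀))
  refine ⟨X.basicOpen g, rres (X.basicOpen_le g) f₀, a * h₀, hW₀.basicOpen g, hyg, ?_, ?_, ?_⟩
  · rintro w ⟨hw, hwU⟩
    exact hdiff w hw fun hwf => hwU (X.basicOpen_le h₀ (hf₀ hwf))
  · rw [heq, Scheme.basicOpen_res]
  · change rres hh₀ (g * f₀) * rres (X.basicOpen_le h₀) (h₀ ^ m) = rres (X.basicOpen_le h₀) a at ha
    have hu : IsUnit (rres (X.basicOpen_le h₀) (h₀ ^ m)) := by
      rw [map_pow]; exact (RingedSpace.isUnit_res_basicOpen _ h₀).pow m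
    have h1 := congrArg X.basicOpen ha
    rw [Scheme.basicOpen_mul, X.basicOpen_of_isUnit hu, Scheme.basicOpen_res, Scheme.basicOpen_res,
      Scheme.basicOpen_mul] at h1
    rw [heq, Scheme.basicOpen_mul, inf_comm (X.basicOpen a), ← h1]
    refine le_antisymm (le_inf (inf_le_right.trans hf₀ |> fun h => le_inf h le_rfl) (inf_le_right.trans hf₀))
      (inf_le_left.trans inf_le_right)

/-- Every point lies in an open containing all points of codimension at most one with an ample family. -/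
theorem exists_thick (x : X) :
    ∃ V : X.Opens, x ∈ V ∧ (∀ y : X, ringKrullDim (X.presheaf.stalk y) ≤ 1 → y ∈ V) ∧
      MoreMor.HasAmpleFamily (V : Scheme.{u}) := by
  classical
  obtain ⟨U, hU, hxU, hUd⟩ := BlowUpFam.exists_dense_affine X
    (NoetherianSpace.finite_irreducibleComponents) x
  let Y : Set X := {y | y ∉ U ∧ ringKrullDim (X.presheaf.stalk y) ≤ 1}
  have hspec : ∀ y ∈ Y, ∀ z, z ∉ U → z ⤳ y → z = y := fun y hy z hz hzy => by
    obtain ⟨η, hη, hηz⟩ := Groth.Agent.FlatMor.GenericPts.exists_generic_specializes z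
    have hηU : η ∈ U := Groth.Agent.FlatMor.GenericPts.mem_of_dense hUd hη
    by_contra h
    exact no_chain hy.2 hηz hzy (fun e => hz (e ▸ hηU)) h
  obtain ⟨S, hSf, hSc, hSi, hSU⟩ := NoetherianSpace.exists_finite_set_isClosed_irreducible U.2.isClosed_compl
  have hY : Y.Finite := by
    refine (hSf.dependent_image fun s hs => (hSi s hs).genericPoint).subset fun y hy => ?_
    obtain ⟨s, hs, hys⟩ : y ∈ ⋃₀ S := by rw [← hSU]; exact hy.1
    have hgen := (hSi s hs).isGenericPoint_genericPoint (hSc s hs)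
    refine ⟨s, hs, hspec y hy _ ?_ (hgen.specializes hys)⟩
    have : (hSi s hs).genericPoint ∈ (U : Set X)ᶜ := hSU.ge ⟨s, hs, hgen.mem⟩
    exact this
  haveI := hY.fintype
  have hex : ∀ y : Y, ∃ (W : X.Opens) (f : Γ(X, W)) (h : Γ(X, U)), IsAffineOpen W ∧ y.1 ∈ W ∧
      (W : Set X) \ U ⊆ closure {y.1} ∧
      U ⊓ W = X.basicOpen f ∧ U ⊓ W = X.basicOpen h := fun y => by
    obtain ⟨W, f, h, hW, hyW, hWc, hf, hh⟩ := exists_nhd U hU hUd y.1 y.2.1 y.2.2
    exact ⟨W, f, h, hW, hyW, hWc, hf, hh⟩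
  choose W f h hW hyW hWc hf hh using hex
  let W' : ULift.{u} Y → X.Opens := fun y => W y.down
  let V : X.Opens := U ⊔ ⨆ y, W' y
  haveI : CompactSpace V.toScheme := isCompact_iff_compactSpace.mp (NoetherianSpace.isCompact _)
  refine ⟨V, Opens.mem_sup.mpr (Or.inl hxU), fun y hy => ?_, ?_⟩
  · by_cases hyU : y ∈ U
    · exact Opens.mem_sup.mpr (Or.inl hyU)
    · exact Opens.mem_sup.mpr (Or.inr (Opens.mem_iSup.mpr ⟨⟨⟨y, hyU, hy⟩⟩, hyW ⟨y, hyU, hy⟩⟩))
  have hle : U ≤ V := le_sup_left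
  have hleW : ∀ y, W' y ≤ V := fun y => (le_iSup W' y).trans le_sup_right
  refine Boundary.hasAmpleFamily (V.ι ⁻¹ᵁ U) (hU.preimage_of_isOpenImmersion V.ι (hle.trans V.opensRange_ι.ge)) (fun y => V.ι ⁻¹ᵁ W' y)
    (fun y => (hW _).preimage_of_isOpenImmersion V.ι ((hleW y).trans V.opensRange_ι.ge)) ?_ ?_ (fun y => V.ι.app _ (f y.down)) ?_
    (fun y => V.ι.app _ (h y.down)) ?_
  · rintro y z hyz w ⟨h1, h2⟩
    by_contra hwU
    -- a common boundary point would make one of the two chosen points specialise into the other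
    have hy' := specializes_iff_mem_closure.mpr (hWc y.down ⟨h1, hwU⟩)
    have hz' := specializes_iff_mem_closure.mpr (hWc z.down ⟨h2, hwU⟩)
    have hzy := specializes_iff_mem_closure.mpr (hWc y.down ⟨hz'.mem_open (W y.down).2 h1, z.down.2.1⟩)
    exact hyz (ULift.ext _ _ (Subtype.ext (hspec z.down.1 z.down.2 y.down.1 y.down.2.1 hzy)))
  · intro w _
    rcases Opens.mem_sup.mp (show V.ι w ∈ V from w.2) with h1 | h1
    · exact Opens.mem_sup.mpr (Or.inl h1)
    · obtain ⟨y, hy⟩ := Opens.mem_iSup.mp h1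
      exact Opens.mem_sup.mpr (Or.inr (Opens.mem_iSup.mpr ⟨y, hy⟩))
  · intro y
    rw [← Scheme.preimage_basicOpen, ← hf y.down]
    rfl
  · intro y
    rw [← Scheme.preimage_basicOpen, ← hh y.down]
    rfl

end Groth.Agent.AmpleFam.Thick
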